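import Mathlib.Topology.KrullDimension
import Mathlib.Topology.NoetherianSpace
import Mathlib.Topology.Separation.Basic
import Groth.Prelude.Def_Flat

/-!
# Combinatorial dimension of topological spaces: chains, covers, local dimension
-/

namespace Groth.Agent.Lib.TopDim.Basic

open Set TopologicalSpace Topology Order

variable {X : Type*} [TopologicalSpace X]

lemma monotone_preimage_aux {S : Set X} (s : LTSeries (IrreducibleCloseds X)) (i : Fin (s.length + 1)) :
    (s i : Set X) ⊆ (s.last : Set X) ∧ (s.head : Set X) ⊆ (s i : Set X) ∧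
      ((s.last : Set X) ⊆ S → (s i : Set X) ⊆ S) :=
  ⟨(s.monotone (Fin.le_last i) : s i ≤ s.last), (s.monotone (Fin.zero_le i) : s.head ≤ s i),
    fun h ↦ Set.Subset.trans (s.monotone (Fin.le_last i) : s i ≤ s.last) h⟩

/-- A chain whose largest member lies in the subset `S` gives a chain of `S`. -/
lemma length_le_of_last_subset {S : Set X} (s : LTSeries (IrreducibleCloseds X))
    (h : (s.last : Set X) ⊆ S) : (s.length : WithBot ℕ∞) ≤ topologicalKrullDim S := by
  have hsub : ∀ i, (s i : Set X) ⊆ S := fun i ↦ (monotone_preimage_aux s i).2.2 h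
  have himg : ∀ i, (Subtype.val : S → X) '' ((Subtype.val : S → X) ⁻¹' (s i : Set X)) = s i :=
    fun i ↦ by rw [Subtype.image_preimage_coe, inter_eq_right.mpr (hsub i)]
  let t : Fin (s.length + 1) → IrreducibleCloseds S := fun i ↦
    { carrier := (Subtype.val : S → X) ⁻¹' (s i : Set X)
      isIrreducible' := by
        obtain ⟨⟨x, hx⟩, hp⟩ := (s i).isIrreducible
        refine ⟨⟨⟨x, hsub i hx⟩, hx⟩, fun U V hU hV hUn hVn ↦ ?_⟩
        obtain ⟨U, hU', rfl⟩ := isOpen_induced_iff.mp hU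
        obtain ⟨V, hV', rfl⟩ := isOpen_induced_iff.mp hV
        obtain ⟨a, ha, ha'⟩ := hUn
        obtain ⟨b, hb, hb'⟩ := hVn
        obtain ⟨c, hc, hcU, hcV⟩ := hp U V hU' hV' ⟨a, ha, ha'⟩ ⟨b, hb, hb'⟩
        exact ⟨⟨c, hsub i hc⟩, hc, hcU, hcV⟩
      isClosed' := (s i).isClosed.preimage continuous_subtype_val }
  refine LTSeries.length_le_krullDim (α := IrreducibleCloseds S)
    { length := s.length, toFun := t, step := fun i ↦ ?_ }
  have hlt : s i.castSucc < s i.succ := s.step i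
  show t i.castSucc < t i.succ
  refine lt_of_le_of_ne (show (t i.castSucc : Set S) ⊆ t i.succ from fun x hx ↦ hlt.le hx) fun heq ↦ hlt.ne ?_
  refine IrreducibleCloseds.ext ?_
  rw [← himg i.castSucc, ← himg i.succ]
  exact congrArg (fun Z : IrreducibleCloseds S ↦ Subtype.val '' (Z : Set S)) heq

/-- A chain whose smallest member meets the open `U` gives a chain of `U`. -/
lemma length_le_of_head_inter {U : Set X} (hU : IsOpen U) (s : LTSeries (IrreducibleCloseds X))
    (h : ((s.head : Set X) ∩ U).Nonempty) : (s.length : WithBot ℕ∞) ≤ topologicalKrullDim U := by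
  let e := IrreducibleCloseds.orderIsoOfIsOpenEmbedding (Subtype.val : U → X)
    hU.isOpenEmbedding_subtypeVal
  obtain ⟨x, hx, hxU⟩ := h
  let t : Fin (s.length + 1) → IrreducibleCloseds U := fun i ↦
    e.symm ⟨s i, ⟨⟨x, hxU⟩, (monotone_preimage_aux (S := U) s i).2.1 hx⟩⟩
  exact LTSeries.length_le_krullDim (α := IrreducibleCloseds U)
    { length := s.length, toFun := t, step := fun i ↦ e.symm.strictMono (s.step i) }

lemma exists_open_of_head (s : LTSeries (IrreducibleCloseds X)) :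
    ∃ x : X, x ∈ (s.head : Set X) :=
  s.head.isIrreducible.nonempty

lemma topologicalKrullDim_le_iff (c : WithBot ℕ∞) :
    topologicalKrullDim X ≤ c ↔
      ∀ s : LTSeries (IrreducibleCloseds X), (s.length : WithBot ℕ∞) ≤ c :=
  iSup_le_iff

lemma topologicalKrullDim_nonneg [Nonempty X] : 0 ≤ topologicalKrullDim X :=
  have : Nonempty (IrreducibleCloseds X) := ⟨⟨closure {Classical.arbitrary X},
    isIrreducible_singleton.closure, isClosed_closure⟩⟩
  Order.krullDim_nonneg

/-- In a locally finite closed cover every irreducible set lies in one member. -/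
lemma exists_subset_of_locallyFinite {ι : Type*} {Y : ι → Set X} (hY : ∀ i, IsClosed (Y i))
    (hlf : LocallyFinite Y) (hcov : ⋃ i, Y i = univ) {Z : Set X} (hZ : IsIrreducible Z) :
    ∃ i, Z ⊆ Y i := by
  classical
  obtain ⟨x, hx⟩ := hZ.1
  obtain ⟨V, hV, hfin⟩ := hlf x
  obtain ⟨O, hOV, hO, hxO⟩ := mem_nhds_iff.mp hV
  obtain ⟨C, hC, hsub⟩ := isIrreducible_iff_sUnion_isClosed.mp
    (show IsIrreducible (Z ∩ O) from ⟨⟨x, hx, hxO⟩, fun U V hU hV ⟨a, ha, ha'⟩ ⟨b, hb, hb'⟩ ↦ by
      obtain ⟨c, hc, ⟨hcO, hcU⟩, -, hcV⟩ := hZ.2 (O ∩ U) (O ∩ V) (hO.inter hU) (hO.inter hV)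
        ⟨a, ha.1, ha.2, ha'⟩ ⟨b, hb.1, hb.2, hb'⟩
      exact ⟨c, ⟨hc, hcO⟩, hcU, hcV⟩⟩)
    (hfin.toFinset.image Y) (by simp only [Finset.forall_mem_image]; exact fun i _ ↦ hY i)
    (fun z hz ↦ by
      obtain ⟨i, hi⟩ := mem_iUnion.mp (hcov.symm ▸ mem_univ z)
      exact mem_sUnion.mpr ⟨Y i, Finset.mem_image.mpr ⟨i, hfin.mem_toFinset.mpr ⟨z, hi, hOV hz.2⟩,
        rfl⟩, hi⟩)
  obtain ⟨i, -, rfl⟩ := Finset.mem_image.mp hC
  refine ⟨i, ?_⟩
  calc Z ⊆ closure (Z ∩ O) := subset_closure_inter_of_isPreirreducible_of_isOpen hZ.2 hO ⟨x, hx, hxO⟩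
    _ ⊆ Y i := closure_minimal hsub (hY i)

lemma topologicalKrullDim_eq_iSup_of_locallyFinite {ι : Type*} (Y : ι → Set X)
    (hY : ∀ i, IsClosed (Y i)) (hlf : LocallyFinite Y) (hcov : ⋃ i, Y i = univ) :
    topologicalKrullDim X = ⨆ i, topologicalKrullDim (Y i) := by
  refine le_antisymm (iSup_le fun s ↦ ?_) (iSup_le fun i ↦ topologicalKrullDim_subspace_le X _)
  obtain ⟨i, hi⟩ := exists_subset_of_locallyFinite hY hlf hcov s.last.isIrreducible
  exact (length_le_of_last_subset s hi).trans (le_iSup (fun i ↦ topologicalKrullDim (Y i)) i)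

lemma topologicalKrullDim_mono {S T : Set X} (h : S ⊆ T) :
    topologicalKrullDim S ≤ topologicalKrullDim T :=
  (IsEmbedding.inclusion h).isInducing.topologicalKrullDim_le

lemma localDim_le (x : X) {U : Opens X} (hx : x ∈ U) :
    FlatMor.localDim X x ≤ topologicalKrullDim (U : Set X) :=
  iInf_le (fun U : {U : Opens X // x ∈ U} ↦ topologicalKrullDim (U.1 : Set X)) ⟨U, hx⟩

lemma localDim_le_topologicalKrullDim (x : X) : FlatMor.localDim X x ≤ topologicalKrullDim X :=
  (localDim_le x (Opens.mem_top x)).trans (topologicalKrullDim_subspace_le X _)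

lemma length_le_localDim (s : LTSeries (IrreducibleCloseds X)) {x : X} (hx : x ∈ (s.head : Set X)) :
    (s.length : WithBot ℕ∞) ≤ FlatMor.localDim X x :=
  le_iInf fun U ↦ length_le_of_head_inter U.1.2 s ⟨x, hx, U.2⟩

lemma localDim_nonneg (x : X) : 0 ≤ FlatMor.localDim X x :=
  le_iInf fun U ↦
    have : Nonempty (U.1 : Set X) := ⟨⟨x, U.2⟩⟩
    topologicalKrullDim_nonneg

lemma exists_open_eq_localDim (x : X) :
    ∃ U : Opens X, x ∈ U ∧ topologicalKrullDim (U : Set X) = FlatMor.localDim X x := by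
  have : Nonempty {U : Opens X // x ∈ U} := ⟨⟨⊤, Opens.mem_top x⟩⟩
  obtain ⟨U, hU⟩ := ciInf_mem (fun U : {U : Opens X // x ∈ U} ↦ topologicalKrullDim (U.1 : Set X))
  exact ⟨U.1, U.2, hU⟩

/-- A noetherian T0 space of dimension at most zero is finite and discrete. -/
lemma finite_discrete_of_dim_le_zero [NoetherianSpace X] [T0Space X]
    (h : topologicalKrullDim X ≤ 0) : Finite X ∧ DiscreteTopology X := by
  have hmax := Order.krullDim_nonpos_iff_forall_isMax.mp h
  have hcl : ∀ x : X, IsClosed ({x} : Set X) := fun x ↦ by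
    rw [← closure_subset_iff_isClosed]
    intro y hy
    have hle : (⟨closure {y}, isIrreducible_singleton.closure, isClosed_closure⟩ : IrreducibleCloseds X)
        ≤ ⟨closure {x}, isIrreducible_singleton.closure, isClosed_closure⟩ :=
      (closure_minimal (singleton_subset_iff.mpr hy) isClosed_closure :
        closure {y} ⊆ closure ({x} : Set X))
    have hge : closure ({x} : Set X) ⊆ closure {y} := hmax _ hle
    exact ((specializes_iff_mem_closure.mpr (hge (subset_closure rfl))).antisymm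
      (specializes_iff_mem_closure.mpr hy)).eq
  obtain ⟨S, hS, hSc, hSi, hcov⟩ :=
    NoetherianSpace.exists_finite_set_isClosed_irreducible (isClosed_univ (X := X))
  have hsub : ∀ Z ∈ S, Z.Subsingleton := fun Z hZ a ha b hb ↦ by
    have key : ∀ z ∈ Z, Z ⊆ {z} := fun z hz ↦ by
      have := hmax ⟨{z}, isIrreducible_singleton, hcl z⟩ (b := ⟨Z, hSi Z hZ, hSc Z hZ⟩)
        (singleton_subset_iff.mpr hz : ({z} : Set X) ⊆ Z)
      exact this
    exact (key b hb ha)
  have hfin : (univ : Set X).Finite := hcov ▸ hS.sUnion fun Z hZ ↦ (hsub Z hZ).finite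
  have : Finite X := Set.finite_univ_iff.mp hfin
  have : T1Space X := ⟨hcl⟩
  exact ⟨‹_›, inferInstance⟩

end Groth.Agent.Lib.TopDim.Basic
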