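import Groth.Prelude.Def_W4stktopologysheavesDim
import Mathlib.Order.Interval.Set.OrdConnected
import Mathlib.Topology.LocallyClosed
import Mathlib.Topology.Sober

/-!
# Codimension and saturated chains; catenary spaces
-/

namespace Groth.Agent.Lib.TopDim.Catenary

open Set TopologicalSpace Topology

section Order

variable {P : Type*} [PartialOrder P]

/-- Supremum of lengths of chains starting at `a` and bounded by `b`. -/
noncomputable def cd (a b : P) : ℕ∞ :=
  ⨆ (s : LTSeries P) (_ : s.head = a ∧ s.last ≤ b), (s.length : ℕ∞)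

/-- A saturated chain. -/
def Saturated (s : LTSeries P) : Prop := ∀ i : Fin s.length, s i.castSucc ⋖ s i.succ

/-- The catenary condition for a poset. -/
def IsCatOn (a b : P) : Prop :=
  cd a b ≠ ⊤ ∧ ∀ s : LTSeries P, s.head = a → s.last = b → Saturated s → (s.length : ℕ∞) = cd a b

lemma length_le_cd {a b : P} {s : LTSeries P} (h₁ : s.head = a) (h₂ : s.last ≤ b) :
    (s.length : ℕ∞) ≤ cd a b :=
  le_iSup₂ (f := fun (s : LTSeries P) (_ : s.head = a ∧ s.last ≤ b) ↦ (s.length : ℕ∞)) s ⟨h₁, h₂⟩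

lemma cd_le_iff {a b : P} {c : ℕ∞} :
    cd a b ≤ c ↔ ∀ s : LTSeries P, s.head = a → s.last ≤ b → (s.length : ℕ∞) ≤ c := by
  simp only [cd, iSup_le_iff, and_imp]

/-- A finite codimension is attained by a saturated chain from `a` to `b`. -/
lemma exists_saturated {a b : P} (hab : a ≤ b) (hfin : cd a b ≠ ⊤) :
    ∃ s : LTSeries P, s.head = a ∧ s.last = b ∧ Saturated s ∧ (s.length : ℕ∞) = cd a b := by
  obtain ⟨n, hn⟩ := ENat.ne_top_iff_exists.mp hfin
  obtain ⟨s, ⟨h₁, h₂⟩, hlen⟩ : ∃ s : LTSeries P, (s.head = a ∧ s.last ≤ b) ∧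
      ∀ t : LTSeries P, t.head = a → t.last ≤ b → t.length ≤ s.length := by
    have hbd : BddAbove {l : ℕ | ∃ s : LTSeries P, (s.head = a ∧ s.last ≤ b) ∧ s.length = l} :=
      ⟨n, fun l ⟨s, hs, hl⟩ ↦ by
        have := length_le_cd hs.1 hs.2
        rw [← hn, Nat.cast_le] at this
        omega⟩
    obtain ⟨s, hs, hl⟩ := Nat.sSup_mem (s := {l : ℕ | ∃ s : LTSeries P,
      (s.head = a ∧ s.last ≤ b) ∧ s.length = l}) ⟨0, RelSeries.singleton _ a, ⟨rfl, hab⟩, rfl⟩ hbd
    exact ⟨s, hs, fun t h₁ h₂ ↦ hl ▸ le_csSup hbd ⟨t, ⟨h₁, h₂⟩, rfl⟩⟩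
  have hlast : s.last = b := by
    by_contra hne
    have := hlen (s.snoc b (lt_of_le_of_ne h₂ hne)) (by rw [RelSeries.head_snoc]; exact h₁)
      (RelSeries.last_snoc _ _ _).le
    simp at this
  refine ⟨s, h₁, hlast, fun i ↦ ⟨s.step i, fun c hc hc' ↦ ?_⟩,
    le_antisymm (length_le_cd h₁ h₂) (cd_le_iff.mpr fun t ht ht' ↦ by exact_mod_cast hlen t ht ht')⟩
  let t := s.insertNth i c hc hc'
  have hth : t.head = a := by
    rw [← h₁]
    show Fin.insertNth (α := fun _ ↦ P) (i.succ.castSucc) c s.toFun 0 = s.toFun 0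
    have h0 : (i.succ.castSucc).succAbove (0 : Fin (s.length + 1)) = 0 :=
      Fin.succAbove_ne_zero_zero (fun h ↦ Fin.succ_ne_zero i (Fin.castSucc_eq_zero_iff.mp h))
    rw [← h0, Fin.insertNth_apply_succAbove]
  have htl : t.last ≤ b := by
    have hl : (i.succ.castSucc).succAbove (Fin.last s.length) = Fin.last _ :=
      Fin.succAbove_ne_last_last (Fin.castSucc_lt_last _).ne
    show Fin.insertNth (α := fun _ ↦ P) (i.succ.castSucc) c s.toFun (Fin.last _) ≤ b
    rw [← hl, Fin.insertNth_apply_succAbove]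
    exact h₂
  have := hlen t hth htl
  simp [t] at this

lemma saturated_smash {p q : LTSeries P} (h : p.last = q.head) (hp : Saturated p)
    (hq : Saturated q) : Saturated (RelSeries.smash p q h) := by
  intro i
  revert i
  refine Fin.addCases (fun i ↦ ?_) fun i ↦ ?_
  · convert! hp i using 1
    · exact RelSeries.smash_castAdd h i
    · exact RelSeries.smash_succ_castAdd h i
  · convert! hq i using 1
    · exact RelSeries.smash_natAdd h i
    · exact RelSeries.smash_succ_natAdd h i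

lemma cd_eq_one_of_covBy {a b : P} (h : a ⋖ b) : cd a b = 1 := by
  refine le_antisymm (cd_le_iff.mpr fun s h₁ h₂ ↦ ?_) ?_
  · by_contra hlt
    have hlen : 1 < s.length := by
      rw [not_le] at hlt
      exact_mod_cast hlt
    have hstrict : ∀ i j : Fin (s.length + 1), i < j → s i < s j := fun i j hij ↦ s.strictMono hij
    have ha : a < s ⟨1, by omega⟩ := h₁ ▸ hstrict 0 ⟨1, by omega⟩ (by simp [Fin.lt_def])
    have hb : s ⟨1, by omega⟩ < b :=
      lt_of_lt_of_le (hstrict _ (Fin.last _) (by simp [Fin.lt_def]; omega)) h₂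
    exact h.2 ha hb
  · exact length_le_cd (s := (RelSeries.singleton _ a).snoc b (by simpa using h.lt))
      (by simp) (by simp)

/-- A saturated chain has length the sum of its steps when the codimension is additive. -/
lemma length_eq_cd_of_additive
    (hadd : ∀ a b c : P, a ≤ b → b ≤ c → cd a c = cd a b + cd b c)
    (hfin : ∀ a b : P, a ≤ b → cd a b ≠ ⊤)
    (s : LTSeries P) (hs : Saturated s) : (s.length : ℕ∞) = cd s.head s.last := by
  have key : ∀ (j : ℕ) (hj : j ≤ s.length),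
      (j : ℕ∞) = cd s.head (s ⟨j, Nat.lt_succ_of_le hj⟩) := by
    intro j
    induction j with
    | zero =>
      intro _
      have h0 : s ⟨0, Nat.lt_succ_of_le (Nat.zero_le _)⟩ = s.head := rfl
      rw [h0]
      refine le_antisymm (by simp) (cd_le_iff.mpr fun t h₁ h₂ ↦ ?_)
      by_contra hne
      have hpos : 0 < t.length := by
        rw [not_le] at hne
        exact_mod_cast hne
      exact lt_irrefl _ (lt_of_lt_of_le (h₁ ▸ t.strictMono (show (0 : Fin (t.length + 1)) < Fin.last _ by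
        simp [Fin.lt_def]; omega) : s.head < t.last) h₂)
    | succ j ih =>
      intro hj
      have hcov : s ⟨j, Nat.lt_succ_of_le (Nat.le_of_succ_le hj)⟩ ⋖ s ⟨j + 1, Nat.lt_succ_of_le hj⟩ :=
        hs ⟨j, hj⟩
      rw [hadd s.head (s ⟨j, Nat.lt_succ_of_le (Nat.le_of_succ_le hj)⟩) (s ⟨j + 1, Nat.lt_succ_of_le hj⟩)
        (s.monotone (Fin.zero_le _)) hcov.le, ← ih (Nat.le_of_succ_le hj),
        show cd (s ⟨j, _⟩) (s ⟨j + 1, _⟩) = 1 from cd_eq_one_of_covBy hcov]
      push_cast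
      rfl
  exact key s.length le_rfl

theorem isCatOn_iff_additive :
    (∀ a b : P, a ≤ b → IsCatOn a b) ↔
      (∀ a b : P, a ≤ b → cd a b ≠ ⊤) ∧
        ∀ a b c : P, a ≤ b → b ≤ c → cd a c = cd a b + cd b c := by
  refine ⟨fun h ↦ ⟨fun a b hab ↦ (h a b hab).1, fun a b c hab hbc ↦ ?_⟩, fun ⟨hfin, hadd⟩ a b hab ↦
    ⟨hfin a b hab, fun s h₁ h₂ hs ↦ h₁ ▸ h₂ ▸ length_eq_cd_of_additive hadd hfin s hs⟩⟩
  obtain ⟨p, hp₁, hp₂, hps, hpl⟩ := exists_saturated hab (h a b hab).1
  obtain ⟨q, hq₁, hq₂, hqs, hql⟩ := exists_saturated hbc (h b c hbc).1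
  have hconn : p.last = q.head := hp₂.trans hq₁.symm
  have := (h a c (hab.trans hbc)).2 (RelSeries.smash p q hconn)
    (by rw [RelSeries.head_smash]; exact hp₁) (by rw [RelSeries.last_smash]; exact hq₂)
    (saturated_smash hconn hps hqs)
  rw [← this, ← hpl, ← hql]
  simp

variable {Q : Type*} [PartialOrder Q]

/-- Transport of the catenary condition along an order embedding with order-connected range. -/
theorem isCatOn_map (e : P ↪o Q) (he : (range e).OrdConnected) {a b : P} (hab : a ≤ b) :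
    IsCatOn (e a) (e b) ↔ IsCatOn a b := by
  have hlift : ∀ s : LTSeries Q, s.head = e a → s.last ≤ e b →
      ∃ t : LTSeries P, t.head = a ∧ t.last ≤ b ∧ t.map e e.strictMono = s := by
    intro s h₁ h₂
    have hmem : ∀ i, s i ∈ range e := fun i ↦
      he.out (mem_range_self a) (mem_range_self b)
        ⟨h₁ ▸ s.monotone (Fin.zero_le i), (s.monotone (Fin.le_last i)).trans h₂⟩
    choose t ht using hmem
    refine ⟨⟨s.length, t, fun i ↦ e.lt_iff_lt.mp (by rw [ht, ht]; exact s.step i)⟩, ?_, ?_, ?_⟩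
    · exact e.injective ((ht 0).trans h₁)
    · exact e.le_iff_le.mp ((ht _).le.trans h₂)
    · exact RelSeries.ext rfl (funext fun i ↦ ht i)
  have hcd : cd (e a) (e b) = cd a b := by
    refine le_antisymm (cd_le_iff.mpr fun s h₁ h₂ ↦ ?_) (cd_le_iff.mpr fun t h₁ h₂ ↦ ?_)
    · obtain ⟨t, ht₁, ht₂, rfl⟩ := hlift s h₁ h₂
      exact length_le_cd ht₁ ht₂
    · exact length_le_cd (s := t.map e e.strictMono) (by rw [LTSeries.head_map, h₁])
        (by rw [LTSeries.last_map]; exact e.monotone h₂)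
  have hsat : ∀ t : LTSeries P, Saturated (t.map e e.strictMono) ↔ Saturated t := fun t ↦
    forall_congr' fun i ↦ ⟨fun h ↦ h.of_image e, fun h ↦ h.image e he⟩
  rw [IsCatOn, IsCatOn, hcd]
  refine and_congr_right fun _ ↦ ⟨fun h t h₁ h₂ ht ↦ ?_, fun h s h₁ h₂ hs ↦ ?_⟩
  · exact h (t.map e e.strictMono) (by rw [LTSeries.head_map, h₁]) (by rw [LTSeries.last_map, h₂])
      ((hsat t).mpr ht)
  · obtain ⟨t, ht₁, ht₂, rfl⟩ := hlift s h₁ h₂.le
    exact h t ht₁ (e.injective ((LTSeries.last_map t e e.strictMono).symm.trans h₂))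
      ((hsat t).mp hs)

end Order

/-! ### Irreducible closed subsets of a locally closed subspace -/

section Space

variable {X : Type*} [TopologicalSpace X]

/-- The order embedding of irreducible closed subsets of a subspace. -/
noncomputable def emb (S : Set X) : IrreducibleCloseds S ↪o IrreducibleCloseds X :=
  OrderEmbedding.ofMapLEIff (IrreducibleCloseds.map (Subtype.val : S → X) continuous_subtype_val)
    fun A B ↦ ⟨fun h x hx ↦ by
      have hx' : (x : X) ∈ closure (Subtype.val '' (A : Set S)) := subset_closure ⟨x, hx, rfl⟩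
      have := closure_subtype.mpr (h hx')
      rwa [B.isClosed.closure_eq] at this,
    fun h ↦ IrreducibleCloseds.map_mono continuous_subtype_val h⟩

lemma coe_emb (S : Set X) (A : IrreducibleCloseds S) :
    (emb S A : Set X) = closure (Subtype.val '' (A : Set S)) := rfl

/-- An irreducible closed subset of `X` whose trace on `S` is nonempty and dense is in the image. -/
lemma mem_range_emb {S : Set X} (hS : IsLocallyClosed S) {Z : IrreducibleCloseds X}
    (hZS : (Z : Set X) ⊆ closure S) (hne : ((Z : Set X) ∩ S).Nonempty) :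
    Z ∈ range (emb S) := by
  have hO : IsOpen (coborder S) := isLocallyClosed_iff_isOpen_coborder.mp hS
  have heq : (Z : Set X) ∩ S = (Z : Set X) ∩ coborder S := by
    refine subset_antisymm (inter_subset_inter_right _ subset_coborder) fun x hx ↦ ⟨hx.1, ?_⟩
    rw [← closure_inter_coborder (s := S)]
    exact ⟨hZS hx.1, hx.2⟩
  obtain ⟨x, hxZ, hxS⟩ := hne
  have hirr : IsIrreducible ((Subtype.val : S → X) ⁻¹' (Z : Set X)) := by
    refine ⟨⟨⟨x, hxS⟩, hxZ⟩, fun U V hU hV hUn hVn ↦ ?_⟩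
    obtain ⟨U, hU', rfl⟩ := isOpen_induced_iff.mp hU
    obtain ⟨V, hV', rfl⟩ := isOpen_induced_iff.mp hV
    obtain ⟨⟨a, haS⟩, ha, haU⟩ := hUn
    obtain ⟨⟨b, hbS⟩, hb, hbV⟩ := hVn
    obtain ⟨c, hc, ⟨hcO, hcU⟩, -, hcV⟩ := Z.isIrreducible.2 (coborder S ∩ U) (coborder S ∩ V)
      (hO.inter hU') (hO.inter hV') ⟨a, ha, subset_coborder haS, haU⟩
      ⟨b, hb, subset_coborder hbS, hbV⟩
    exact ⟨⟨c, (heq.symm ▸ ⟨hc, hcO⟩ : c ∈ (Z : Set X) ∩ S).2⟩, hc, hcU, hcV⟩
  refine ⟨⟨_, hirr, Z.isClosed.preimage continuous_subtype_val⟩, IrreducibleCloseds.ext ?_⟩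
  rw [coe_emb]
  show closure (Subtype.val '' ((Subtype.val : S → X) ⁻¹' (Z : Set X))) = (Z : Set X)
  rw [Subtype.image_preimage_coe, inter_comm, heq]
  refine subset_antisymm (closure_minimal inter_subset_left Z.isClosed) ?_
  exact subset_closure_inter_of_isPreirreducible_of_isOpen Z.isIrreducible.2 hO
    ⟨x, hxZ, subset_coborder hxS⟩

lemma ordConnected_range_emb {S : Set X} (hS : IsLocallyClosed S) :
    (range (emb S)).OrdConnected := by
  refine ⟨?_⟩
  rintro _ ⟨A, rfl⟩ _ ⟨B, rfl⟩ Z ⟨hAZ, hZB⟩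
  obtain ⟨a, ha⟩ := A.isIrreducible.nonempty
  refine mem_range_emb hS (fun z hz ↦ ?_) ⟨a, hAZ (subset_closure ⟨a, ha, rfl⟩), a.2⟩
  exact closure_mono (Subtype.coe_image_subset S _) (hZB hz)

theorem isCatenarySpace_subspace {S : Set X} (hS : IsLocallyClosed S)
    (h : PtTop.IsCatenarySpace X) : PtTop.IsCatenarySpace S := fun A B hAB ↦
  (isCatOn_map (emb S) (ordConnected_range_emb hS) hAB).mp
    (h (emb S A) (emb S B) ((emb S).monotone hAB))

theorem isCatenarySpace_of_open_cover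
    (h : ∀ x : X, ∃ U : Opens X, x ∈ U ∧ PtTop.IsCatenarySpace U) : PtTop.IsCatenarySpace X := by
  intro T T' hTT'
  obtain ⟨x, hx⟩ := T.isIrreducible.nonempty
  obtain ⟨U, hxU, hcat⟩ := h x
  have hlc : IsLocallyClosed (U : Set X) := U.2.isLocallyClosed
  have hmem : ∀ Z : IrreducibleCloseds X, T ≤ Z → Z ∈ range (emb (U : Set X)) := fun Z hZ ↦
    mem_range_emb hlc ((subset_closure_inter_of_isPreirreducible_of_isOpen Z.isIrreducible.2 U.2
      ⟨x, hZ hx, hxU⟩).trans (closure_mono inter_subset_right)) ⟨x, hZ hx, hxU⟩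
  obtain ⟨A, hA⟩ := hmem T le_rfl
  obtain ⟨B, hB⟩ := hmem T' hTT'
  subst hA hB
  exact (isCatOn_map (emb (U : Set X)) (ordConnected_range_emb hlc)
    ((emb (U : Set X)).le_iff_le.mp hTT')).mpr (hcat A B ((emb (U : Set X)).le_iff_le.mp hTT'))

lemma codim_eq_cd (Y Y' : IrreducibleCloseds X) : PtTop.codim Y (Y' : Set X) = cd Y Y' := rfl

lemma isCatenarySpace_iff : PtTop.IsCatenarySpace X ↔ ∀ a b : IrreducibleCloseds X, a ≤ b → IsCatOn a b :=
  Iff.rfl

end Space

end Groth.Agent.Lib.TopDim.Catenary
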