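import Groth.Agent.Lib.TopDim.Catenary

/-!
# Dimension functions on sober spaces
-/

namespace Groth.Agent.Lib.TopDim.DimFun

open Set TopologicalSpace Topology Groth.Agent.Lib.TopDim.Catenary

variable {X : Type*} [TopologicalSpace X] [QuasiSober X] [T0Space X]

/-- The irreducible closed subset attached to a point. -/
def pt (x : X) : IrreducibleCloseds X := ⟨closure {x}, isIrreducible_singleton.closure, isClosed_closure⟩

/-- The generic point of an irreducible closed subset. -/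
noncomputable def gen (Z : IrreducibleCloseds X) : X :=
  (QuasiSober.sober Z.isIrreducible Z.isClosed).choose

lemma gen_spec (Z : IrreducibleCloseds X) : IsGenericPoint (gen Z) (Z : Set X) :=
  (QuasiSober.sober Z.isIrreducible Z.isClosed).choose_spec

lemma pt_gen (Z : IrreducibleCloseds X) : pt (gen Z) = Z := IrreducibleCloseds.ext (gen_spec Z).def

lemma gen_pt (x : X) : gen (pt x) = x := (gen_spec (pt x)).eq isGenericPoint_closure

lemma le_iff {Z Z' : IrreducibleCloseds X} : Z ≤ Z' ↔ gen Z' ⤳ gen Z :=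
  ⟨fun h ↦ (gen_spec Z').specializes (h (gen_spec Z).mem), fun h ↦ by
    rw [← pt_gen Z, ← pt_gen Z']
    exact (closure_minimal (singleton_subset_iff.mpr h.mem_closure) isClosed_closure :
      closure {gen Z} ⊆ closure ({gen Z'} : Set X))⟩

lemma gen_injective : Function.Injective (gen : IrreducibleCloseds X → X) := fun Z Z' h ↦ by
  rw [← pt_gen Z, ← pt_gen Z', h]

variable {δ : X → ℤ} (hδ : PtTop.IsDimensionFunction δ)

include hδ

lemma delta_lt {Z Z' : IrreducibleCloseds X} (h : Z < Z') : δ (gen Z) < δ (gen Z') :=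
  hδ.1 _ _ (le_iff.mp h.le) fun he ↦ h.ne' (gen_injective he)

lemma delta_covBy {Z Z' : IrreducibleCloseds X} (h : Z ⋖ Z') : δ (gen Z') = δ (gen Z) + 1 := by
  refine hδ.2 _ _ ⟨le_iff.mp h.le, fun he ↦ h.ne' (gen_injective he), fun z h₁ h₂ ↦ ?_⟩
  by_contra hne
  simp only [not_or] at hne
  rw [← gen_pt z] at h₁ h₂
  refine h.2 (lt_of_le_of_ne (le_iff.mpr h₂) fun he ↦ hne.2 ?_)
    (lt_of_le_of_ne (le_iff.mpr h₁) fun he ↦ hne.1 ?_)
  · rw [he, gen_pt]
  · rw [← he, gen_pt]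

lemma length_le_delta (s : LTSeries (IrreducibleCloseds X)) :
    (s.length : ℤ) ≤ δ (gen s.last) - δ (gen s.head) ∧
      (Saturated s → (s.length : ℤ) = δ (gen s.last) - δ (gen s.head)) := by
  have key : ∀ (j : ℕ) (hj : j ≤ s.length),
      (j : ℤ) ≤ δ (gen (s ⟨j, Nat.lt_succ_of_le hj⟩)) - δ (gen s.head) ∧
        (Saturated s → (j : ℤ) = δ (gen (s ⟨j, Nat.lt_succ_of_le hj⟩)) - δ (gen s.head)) := by
    intro j
    induction j with
    | zero =>
      intro _
      have h0 : s ⟨0, Nat.lt_succ_of_le (Nat.zero_le _)⟩ = s.head := rfl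
      rw [h0]
      simp
    | succ j ih =>
      intro hj
      obtain ⟨h₁, h₂⟩ := ih (Nat.le_of_succ_le hj)
      have hlt : s ⟨j, Nat.lt_succ_of_le (Nat.le_of_succ_le hj)⟩ < s ⟨j + 1, Nat.lt_succ_of_le hj⟩ :=
        s.step ⟨j, hj⟩
      have := delta_lt hδ hlt
      refine ⟨by push_cast; omega, fun hs ↦ ?_⟩
      have hcov : s ⟨j, Nat.lt_succ_of_le (Nat.le_of_succ_le hj)⟩ ⋖ s ⟨j + 1, Nat.lt_succ_of_le hj⟩ :=
        hs ⟨j, hj⟩
      have := delta_covBy hδ hcov
      have := h₂ hs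
      push_cast
      omega
  exact key s.length le_rfl

lemma delta_mono {Z Z' : IrreducibleCloseds X} (h : Z ≤ Z') : δ (gen Z) ≤ δ (gen Z') := by
  rcases h.eq_or_lt with rfl | h
  · rfl
  · exact (delta_lt hδ h).le

lemma cd_le_delta {T T' : IrreducibleCloseds X} :
    cd T T' ≤ ((δ (gen T') - δ (gen T)).toNat : ℕ∞) := by
  refine cd_le_iff.mpr fun s h₁ h₂ ↦ ?_
  have h := (length_le_delta hδ s).1
  have := delta_mono hδ h₂
  rw [h₁] at h
  exact_mod_cast (show s.length ≤ (δ (gen T') - δ (gen T)).toNat by omega)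

lemma cd_ne_top (T T' : IrreducibleCloseds X) : cd T T' ≠ ⊤ :=
  ((cd_le_delta hδ).trans_lt (ENat.natCast_lt_top _)).ne

lemma cd_eq_delta {T T' : IrreducibleCloseds X} (h : T ≤ T') :
    cd T T' = ((δ (gen T') - δ (gen T)).toNat : ℕ∞) := by
  obtain ⟨s, h₁, h₂, hs, hlen⟩ := exists_saturated h (cd_ne_top hδ T T')
  have := (length_le_delta hδ s).2 hs
  rw [h₁, h₂] at this
  rw [← hlen, Nat.cast_inj]
  omega

theorem isCatenarySpace : PtTop.IsCatenarySpace X := fun T T' hTT' ↦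
  ⟨cd_ne_top hδ T T', fun s h₁ h₂ hs ↦ by
    rw [codim_eq_cd, cd_eq_delta hδ hTT', Nat.cast_inj]
    have := (length_le_delta hδ s).2 hs
    rw [h₁, h₂] at this
    omega⟩

theorem cd_pt {x y : X} (h : x ⤳ y) : cd (pt y) (pt x) = ((δ x - δ y).toNat : ℕ∞) := by
  rw [cd_eq_delta hδ (le_iff.mpr (by rwa [gen_pt, gen_pt])), gen_pt, gen_pt]

end Groth.Agent.Lib.TopDim.DimFun
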