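import Mathlib.Topology.Separation.Hausdorff
import Mathlib.Topology.Compactness.Compact

/-!
# Shrinking covers of a relatively Hausdorff compact subset
-/

namespace Groth.Agent.Lib.TopDim.Shrink

open Set

variable {X : Type*} [TopologicalSpace X]

/-- Points of `Z` have disjoint open neighbourhoods in `X`. -/
def SepIn (Z : Set X) : Prop :=
  ∀ z ∈ Z, ∀ z' ∈ Z, z ≠ z' → ∃ A B : Set X, IsOpen A ∧ IsOpen B ∧ z ∈ A ∧ z' ∈ B ∧ Disjoint A B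

theorem separated {Z : Set X} (hs : SepIn Z) {K L : Set X} (hK : IsCompact K) (hL : IsCompact L)
    (hKZ : K ⊆ Z) (hLZ : L ⊆ Z) (hd : Disjoint K L) :
    ∃ A B : Set X, IsOpen A ∧ IsOpen B ∧ K ⊆ A ∧ L ⊆ B ∧ Disjoint A B := by
  have h1 : ∀ z ∈ K, ∃ A B : Set X, IsOpen A ∧ IsOpen B ∧ z ∈ A ∧ L ⊆ B ∧ Disjoint A B := by
    intro z hz
    choose A B hA hB hzA hzB hAB using fun (y : L) ↦
      hs z (hKZ hz) y (hLZ y.2) fun h ↦ disjoint_left.mp hd hz (h ▸ y.2)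
    obtain ⟨t, ht⟩ := hL.elim_finite_subcover B hB fun y hy ↦ mem_iUnion.mpr ⟨⟨y, hy⟩, hzB ⟨y, hy⟩⟩
    refine ⟨⋂ y ∈ t, A y, ⋃ y ∈ t, B y, isOpen_biInter_finset fun y _ ↦ hA y,
      isOpen_biUnion fun y _ ↦ hB y, mem_iInter₂.mpr fun y _ ↦ hzA y, ht, disjoint_left.mpr ?_⟩
    intro x hxA hxB
    obtain ⟨y, hy, hxy⟩ := mem_iUnion₂.mp hxB
    exact disjoint_left.mp (hAB y) (mem_iInter₂.mp hxA y hy) hxy
  choose A B hA hB hzA hzB hAB using fun (z : K) ↦ h1 z z.2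
  obtain ⟨t, ht⟩ := hK.elim_finite_subcover A hA fun z hz ↦ mem_iUnion.mpr ⟨⟨z, hz⟩, hzA ⟨z, hz⟩⟩
  refine ⟨⋃ z ∈ t, A z, ⋂ z ∈ t, B z, isOpen_biUnion fun y _ ↦ hA y,
    isOpen_biInter_finset fun y _ ↦ hB y, ht, fun y hy ↦ mem_iInter₂.mpr fun z _ ↦ hzB z hy,
    disjoint_left.mpr ?_⟩
  intro x hxA hxB
  obtain ⟨z, hz, hxz⟩ := mem_iUnion₂.mp hxA
  exact disjoint_left.mp (hAB z) hxz (mem_iInter₂.mp hxB z hz)

theorem isCompact_inter {Z : Set X} (hs : SepIn Z) {K L : Set X} (hK : IsCompact K)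
    (hL : IsCompact L) (hKZ : K ⊆ Z) (hLZ : L ⊆ Z) : IsCompact (K ∩ L) := by
  have : ∀ z ∈ K \ L, ∃ A : Set X, IsOpen A ∧ z ∈ A ∧ Disjoint A L := fun z hz ↦ by
    obtain ⟨A, B, hA, -, hzA, hLB, hAB⟩ := separated hs isCompact_singleton hL
      (singleton_subset_iff.mpr (hKZ hz.1)) hLZ (disjoint_singleton_left.mpr hz.2)
    exact ⟨A, hA, hzA rfl, hAB.mono_right hLB⟩
  choose A hA hzA hAL using fun (z : ↑(K \ L)) ↦ this z z.2
  have e : K ∩ L = K \ ⋃ z, A z := by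
    ext x
    refine ⟨fun ⟨h1, h2⟩ ↦ ⟨h1, fun h ↦ ?_⟩, fun ⟨h1, h2⟩ ↦ ⟨h1, ?_⟩⟩
    · obtain ⟨z, hz⟩ := mem_iUnion.mp h
      exact disjoint_left.mp (hAL z) hz h2
    · by_contra h
      exact h2 (mem_iUnion.mpr ⟨⟨x, h1, h⟩, hzA ⟨x, h1, h⟩⟩)
  rw [e]
  exact hK.diff (isOpen_iUnion hA)

/-- Compact subsets of `Z` with intersection inside an open `W` have open neighbourhoods with
intersection inside `W`. -/
theorem exists_nhds {Z : Set X} (hZ : IsCompact Z) (hs : SepIn Z) {ι : Type*} (s : Finset ι)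
    (K : ι → Set X) (hK : ∀ i, IsCompact (K i)) (hKZ : ∀ i, K i ⊆ Z) {W : Set X} (hW : IsOpen W)
    (hsub : Z ∩ (⋂ i ∈ s, K i) ⊆ W) :
    ∃ V : ι → Set X, (∀ i, IsOpen (V i)) ∧ (∀ i, K i ⊆ V i) ∧ ∃ Z' : Set X, IsOpen Z' ∧ Z ⊆ Z' ∧
      Z' ∩ (⋂ i ∈ s, V i) ⊆ W := by
  classical
  induction s using Finset.induction generalizing W with
  | empty =>
    exact ⟨fun _ ↦ univ, fun _ ↦ isOpen_univ, fun _ ↦ subset_univ _, W, hW,
      by simpa using hsub, inter_subset_left⟩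
  | insert j t hj ih =>
    have hL : IsCompact (Z ∩ ⋂ i ∈ t, K i) := by
      clear hsub ih hj
      induction t using Finset.induction with
      | empty => simpa using hZ
      | insert k u hk ihu =>
        rw [Finset.set_biInter_insert, inter_left_comm]
        exact isCompact_inter hs (hK k) ihu (hKZ k) inter_subset_left
    obtain ⟨A, B, hA, hB, hKA, hLB, hAB⟩ := separated hs ((hK j).diff hW) hL
      (sdiff_subset.trans (hKZ j)) inter_subset_left (disjoint_left.mpr fun x hx hxL ↦ hx.2 (hsub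
        ⟨hxL.1, by rw [Finset.set_biInter_insert]; exact ⟨hx.1, hxL.2⟩⟩))
    obtain ⟨V, hV, hKV, Z', hZ', hZZ', hsub'⟩ := ih hB hLB
    refine ⟨Function.update V j (A ∪ W), fun i ↦ ?_, fun i ↦ ?_, Z', hZ', hZZ', ?_⟩
    · rcases eq_or_ne i j with rfl | h
      · rw [Function.update_self]; exact hA.union hW
      · rw [Function.update_of_ne h]; exact hV i
    · rcases eq_or_ne i j with rfl | h
      · rw [Function.update_self]
        exact fun x hx ↦ (em (x ∈ W)).elim Or.inr fun h ↦ Or.inl (hKA ⟨hx, h⟩)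
      · rw [Function.update_of_ne h]; exact hKV i
    · rw [Finset.set_biInter_insert, Function.update_self]
      rintro x ⟨hxZ, hxj, hxt⟩
      have hxB : x ∈ B := hsub' ⟨hxZ, mem_iInter₂.mpr fun i hi ↦ by
        have := mem_iInter₂.mp hxt i hi
        rwa [Function.update_of_ne (fun h ↦ hj (by rwa [← h]))] at this⟩
      rcases hxj with h | h
      exacts [absurd hxB (disjoint_left.mp hAB h), h]

/-- Shrinking of a cover of `Z` compatible with open neighbourhoods of the multiple intersections. -/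
theorem exists_shrink {Z : Set X} (hZ : IsCompact Z) (hs : SepIn Z) {ι : Type*} (U : ι → Set X)
    (hU : ∀ i, IsOpen (U i)) (hcov : Z ⊆ ⋃ i, U i) (p : ℕ) (W : (Fin (p + 1) → ι) → Set X)
    (hWo : ∀ t, IsOpen (W t)) (hWZ : ∀ t, (⋂ l, U (t l)) ∩ Z ⊆ W t) :
    ∃ K V : ι → Set X, (∀ i, IsCompact (K i)) ∧ (∀ i, K i ⊆ U i ∩ Z) ∧ (Z ⊆ ⋃ i, K i) ∧
      (∀ i, IsOpen (V i)) ∧ (∀ i, K i ⊆ V i) ∧ (∀ i, V i ⊆ U i) ∧
      (∀ i, closure (V i) ∩ Z ⊆ U i) ∧ ∃ S : Finset ι, (∀ i, i ∉ S → K i = ∅) ∧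
      ∀ t : Fin (p + 1) → ι, (∀ l, t l ∈ S) → (⋂ l, V (t l)) ⊆ W t := by
  classical
  have h1 : ∀ z : Z, ∃ i, ∃ A : Set X, IsOpen A ∧ (z : X) ∈ A ∧ closure A ∩ Z ⊆ U i := fun z ↦ by
    obtain ⟨i, hi⟩ := mem_iUnion.mp (hcov z.2)
    obtain ⟨A, B, hA, hB, hzA, hLB, hAB⟩ := separated hs isCompact_singleton (hZ.diff (hU i))
      (singleton_subset_iff.mpr z.2) sdiff_subset (disjoint_singleton_left.mpr fun h ↦ h.2 hi)
    refine ⟨i, A, hA, hzA rfl, fun x hx ↦ ?_⟩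
    by_contra h
    exact disjoint_left.mp (hAB.closure_left hB) hx.1 (hLB ⟨hx.2, h⟩)
  choose c A hA hzA hAU using h1
  obtain ⟨T, hT⟩ := hZ.elim_finite_subcover A hA fun z hz ↦ mem_iUnion.mpr ⟨⟨z, hz⟩, hzA ⟨z, hz⟩⟩
  let K : ι → Set X := fun i ↦ ⋃ z ∈ T.filter (fun z ↦ c z = i), closure (A z) ∩ Z
  have hKU : ∀ i, K i ⊆ U i ∩ Z := fun i ↦ iUnion₂_subset fun z hz x hx ↦
    ⟨(Finset.mem_filter.mp hz).2 ▸ hAU z hx, hx.2⟩
  have hKc : ∀ i, IsCompact (K i) := fun i ↦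
    (T.filter (fun z ↦ c z = i)).isCompact_biUnion fun z _ ↦ hZ.inter_left isClosed_closure
  have hKZ : ∀ i, K i ⊆ Z := fun i ↦ (hKU i).trans inter_subset_right
  have hKcov : Z ⊆ ⋃ i, K i := fun x hx ↦ by
    obtain ⟨z, hz, hxz⟩ := mem_iUnion₂.mp (hT hx)
    exact mem_iUnion.mpr ⟨c z, mem_iUnion₂.mpr ⟨z, Finset.mem_filter.mpr ⟨hz, rfl⟩, subset_closure hxz, hx⟩⟩
  let S := T.image c
  have hSK : ∀ i, i ∉ S → K i = ∅ := fun i hi ↦ eq_empty_of_forall_notMem fun x hx ↦ by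
    obtain ⟨z, hz, -⟩ := mem_iUnion₂.mp hx
    exact hi (Finset.mem_image.mpr ⟨z, (Finset.mem_filter.mp hz).1, (Finset.mem_filter.mp hz).2⟩)
  have h2 : ∀ t : Fin (p + 1) → ι, ∃ V : ι → Set X, (∀ i, IsOpen (V i)) ∧ (∀ i, K i ⊆ V i) ∧
      (⋂ l, V (t l)) ⊆ W t := by
    intro t
    obtain ⟨V, hV, hKV, Z', hZ', hZZ', hsub⟩ := exists_nhds hZ hs (Finset.univ.image t) K hKc hKZ
      (hWo t) (fun x hx ↦ hWZ t ⟨mem_iInter.mpr fun l ↦ (hKU _ (mem_iInter₂.mp hx.2 (t l)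
        (Finset.mem_image_of_mem t (Finset.mem_univ l)))).1, hx.1⟩)
    refine ⟨fun i ↦ V i ∩ Z', fun i ↦ (hV i).inter hZ',
      fun i ↦ subset_inter (hKV i) ((hKZ i).trans hZZ'),
      fun x hx ↦ hsub ⟨(mem_iInter.mp hx 0).2, mem_iInter₂.mpr fun i hi ↦ ?_⟩⟩
    obtain ⟨l, -, rfl⟩ := Finset.mem_image.mp hi
    exact (mem_iInter.mp hx l).1
  choose Vt hVt hKVt hVW using h2
  have h3 : ∀ i, ∃ O : Set X, IsOpen O ∧ K i ⊆ O ∧ closure O ∩ Z ⊆ U i := fun i ↦ by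
    obtain ⟨O, B, hO, hB, hKO, hLB, hOB⟩ := separated hs (hKc i) (hZ.diff (hU i)) (hKZ i)
      sdiff_subset (disjoint_left.mpr fun x hx hx' ↦ hx'.2 (hKU i hx).1)
    refine ⟨O, hO, hKO, fun x hx ↦ ?_⟩
    by_contra h
    exact disjoint_left.mp (hOB.closure_left hB) hx.1 (hLB ⟨hx.2, h⟩)
  choose O hO hKO hOU using h3
  refine ⟨K, fun i ↦ U i ∩ O i ∩ ⋂ t : Fin (p + 1) → S, Vt (fun l ↦ (t l : ι)) i, hKc, hKU, hKcov,
    fun i ↦ ((hU i).inter (hO i)).inter (isOpen_iInter_of_finite fun t ↦ hVt _ i), fun i ↦ ?_,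
    fun i ↦ inter_subset_left.trans inter_subset_left, fun i x hx ↦ ?_, S, hSK, fun t ht ↦ ?_⟩
  · exact subset_inter (subset_inter ((hKU i).trans inter_subset_left) (hKO i))
      (subset_iInter fun t ↦ hKVt _ i)
  · exact hOU i ⟨closure_mono (inter_subset_left.trans inter_subset_right) hx.1, hx.2⟩
  · intro x hx
    refine hVW t (mem_iInter.mpr fun l ↦ ?_)
    exact mem_iInter.mp (mem_iInter.mp hx l).2 (fun m ↦ ⟨t m, ht m⟩)

end Groth.Agent.Lib.TopDim.Shrink
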